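import Cfsg.Agent.H295.A7Spor
import Cfsg.Agent.H283.OddSpor
import Cfsg.Agent.H284.SepOrd
import Cfsg.Agent.OrdDiv.Table
import Cfsg.Agent.S2119
import Cfsg.Agent.OddHalf.Known
import Cfsg.Agent.S1814
import Cfsg.Agent.Prune
set_option linter.all false
prune_inst 0x7f00000000000000000000000000000000000000000000000000000000000000000000000000000000000000000000000000000000000000000000000000000000000000000000000000000000000000003fffffffffffffffffffffffffffbeffbdffffffff
open scoped Cfsg.Agent.FastGrp

-- part: H295/A7Lie
section
/-!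
# `X` of Lie type in odd characteristic: no component `A` with `A / Z(A) = A₇` (helper295)
-/

set_option autoImplicit false

namespace Cfsg.Agent.H295.A7

open Subgroup Cfsg Equiv Equiv.Perm
open Cfsg.Agent.H283.DescComp Cfsg.Agent.H283.OddComp Cfsg.Agent.H283.OddSpor

universe u v

/-- automorphisms of odd order of `A₇` are inner -/
theorem oi_alt7 : H256.OddInner.OI ↥(alternatingGroup (Fin 7)) := by
  intro α hα
  obtain ⟨s, rfl⟩ := (S2119.result 7 (by norm_num) (by norm_num)).2 α
  have h1 : orderOf (MulAut.conjNormal s : MulAut ↥(alternatingGroup (Fin 7))) = orderOf s :=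
    orderOf_injective _ (S2119.result 7 (by norm_num) (by norm_num)).1 s
  rw [h1] at hα
  have h2 : sign s = 1 := by
    rcases Int.units_eq_one_or (sign s) with h | h
    · exact h
    · exfalso
      have h3 : sign s ^ orderOf s = 1 := by rw [← map_pow, pow_orderOf_eq_one, map_one]
      rw [h, hα.neg_one_pow] at h3
      exact absurd h3 (by decide)
  refine ⟨⟨s, mem_alternatingGroup.2 h2⟩, ?_⟩
  ext x
  rfl

theorem oi_congr {G : Type*} {H : Type*} [Group G] [Group H] (e : G ≃* H) (h : H256.OddInner.OI H) :
    H256.OddInner.OI G := by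
  intro α hα
  obtain ⟨g, hg⟩ := h (MulAut.congr e α) (by rwa [MulEquiv.orderOf_eq])
  refine ⟨e.symm g, ?_⟩
  ext x
  have h1 := congrArg (fun f : MulAut H => e.symm (f (e x))) hg
  change e.symm (e (α (e.symm (e x)))) = e.symm (g * e x * g⁻¹) at h1
  rw [e.symm_apply_apply, e.symm_apply_apply] at h1
  rw [h1, MulAut.conj_apply, _root_.map_mul, _root_.map_mul, _root_.map_inv, e.symm_apply_apply]

theorem not_lie_alt7 {S : Type u} [Group S] (e : S ≃* ↥(alternatingGroup (Fin 7))) {p : ℕ} (hp : p.Prime) :
    ¬ IsLieTypeChar p S := by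
  intro h
  by_cases hp2 : p = 2
  · subst hp2
    exact alt7_not_cp ((CpQuot.Congr.isCpSimple_iff e 2).1 (Or.inl (Or.inl h)))
  · rcases H284.SepOrd.alt OrdDiv.table hp hp2 h (by norm_num) e with ⟨h1, -⟩ | ⟨h1, -⟩
    · omega
    · omega

theorem not_tits_alt7 {S : Type u} [Group S] (e : S ≃* ↥(alternatingGroup (Fin 7))) : ¬ Lie.IsoTits S := fun h =>
  alt7_not_cp ((CpQuot.Congr.isCpSimple_iff e 2).1 (Or.inl (Or.inr (Or.inl ⟨rfl, Or.inr (Or.inr h)⟩))))

/-- **`X` of Lie type in odd characteristic** -/
theorem no_alt7 {K : Type u} [Group K] [Finite K] [IsSimpleGroup K] {p : ℕ} (hp : p.Prime) (hp2 : p ≠ 2)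
    (hK : IsLieTypeChar p K) {x : MulAut K} (hx : x ^ 2 = 1) {A : Subgroup ↥(fixedSubgroup x)} [A.Normal]
    (hA : IsComponent A) (e : (↥A ⧸ center ↥A) ≃* ↥(alternatingGroup (Fin 7))) : False := by
  have := hA.2.2
  have : Fact p.Prime := ⟨hp⟩
  have hperf := hA.2.1.commutator_eq_top
  by_cases hR : Lie.IsoRee K
  · have h1 := H340.CF.component (cf_ree.{u, u} hR x (by rw [← pow_two]; exact hx)) hA.1 hA.2.2 hperf
    exact not_lie_alt7 e Nat.prime_three h1
  · have h1 := odd_row hp2 hK hR x hx A hA (inn_of_OI hp hp2 hA.2 (oi_congr e oi_alt7))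
    obtain ⟨P, h2, h3⟩ := h1.isSplit
    rcases lie_of_concl (S1144.result P h2 h3) with ⟨q, hq, h⟩ | h
    · exact not_lie_alt7 e hq h
    · exact not_tits_alt7 e h

theorem Std.false_of_lie {X : Type u} [Group X] [Finite X] [IsSimpleGroup X] {p : ℕ} (hp : p.Prime) (hp2 : p ≠ 2)
    (hX : IsLieTypeChar p X) {α : MulAut X} {A : Subgroup X} (h : Std α A) : False := by
  have hle : A ≤ fixedSubgroup α := fun a ha => h.fix a ha
  obtain ⟨h1, ⟨f⟩⟩ := sub_qs hle h.qs
  obtain ⟨e⟩ := h.quo
  have hn : (A.subgroupOf (fixedSubgroup α)).Normal := sub_normal fun g hg => h.norm g hg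
  refine no_alt7 hp hp2 hX (x := α) ?_ (A := A.subgroupOf (fixedSubgroup α)) ⟨Subgroup.Normal.isSubnormal hn, h1⟩
    (f.symm.trans e)
  ext x
  rw [pow_two]
  exact h.inv x

end Cfsg.Agent.H295.A7
end

-- part: H295/A7Cases
section
/-!
# The component table, row `A / Z(A) = A₇` (helper295)
-/

set_option autoImplicit false

namespace Cfsg.Agent.H295.A7

open Subgroup Cfsg Equiv Equiv.Perm

universe u v

theorem Std.ord {X : Type u} [Group X] {α : MulAut X} {A : Subgroup X} (h : Std α A) : orderOf α = 2 := by
  have : Fact (Nat.Prime 2) := ⟨Nat.prime_two⟩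
  refine orderOf_eq_prime ?_ ?_
  · ext x
    rw [pow_two]
    exact h.inv x
  · rintro rfl
    obtain ⟨x, hx⟩ := h.ne
    exact hx rfl

theorem inC_of_cp {X : Type u} [Group X] [Finite X] [IsSimpleGroup X] (hna : ¬ IsMulCommutative X)
    (h : IsCpSimple 2 X) : InC 2 X := by
  obtain ⟨h1, h2⟩ := CTwoTab.good_of_simple hna h
  refine ⟨CTwoTab.isQuasisimple_of_simple hna, ?_, h1, h2⟩
  rw [CTwoTab.center_eq_bot_of_simple hna]
  exact IsPGroup.of_bot

/-- `X` a simple `C₂`-group -/
theorem Std.false_of_cp {X : Type u} [Group X] [Finite X] [IsSimpleGroup X] (hna : ¬ IsMulCommutative X)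
    (hX : IsCpSimple 2 X) {α : MulAut X} {A : Subgroup X} (h : Std α A) : False :=
  h.false_of_fix fun L hL => ((S1814.result 2 Nat.prime_two α h.ord).1 (inC_of_cp hna hX) L hL).2.2.1

/-- **The row `A / Z(A) = A₇` of the component table** -/
theorem Std.cases {X : Type u} [Group X] [Finite X] [IsSimpleGroup X] (hna : ¬ IsMulCommutative X)
    (hk : IsKnownSimple' X) {α : MulAut X} {A : Subgroup X} (h : Std α A) :
    (∃ m, 5 ≤ m ∧ Nonempty (X ≃* ↥(alternatingGroup (Fin m)))) ∨
      (Spor.IsoHe X ∧ Outer α A ∧ Nat.card (center ↥A) = 3) := by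
  have cp := fun hX : IsCpSimple 2 X => h.false_of_cp hna hX
  have c2 := fun hX : IsCTwoListed X => cp (Or.inr (Or.inr (Or.inl ⟨rfl, hX⟩)))
  rcases OddHalf.Known.classify hna hk with h1 | ⟨p, hp, hp2, h1⟩ | h1 | h1
  · exact Or.inl h1
  · exact (h.false_of_lie hp hp2 h1).elim
  · rcases h1 with h1 | h1
    · exact (cp (Or.inl (Or.inl h1))).elim
    · exact (cp (Or.inl (Or.inr (Or.inl ⟨rfl, Or.inr (Or.inr h1)⟩)))).elim
  · unfold IsSporadicGroup at h1
    unfold IsCTwoListed at c2
    rcases h1 with h1 | h1 | h1 | h1 | h1 | h1 | h1 | h1 | h1 | h1 | h1 | h1 | h1 | h1 | h1 | h1 | h1 | h1 | h1 | h1 |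
      h1 | h1 | h1 | h1 | h1 | h1
    -- M11 M12 M22 M23 M24 J1 J2 J3 J4 Co1 Co2 Co3 McL HS Suz He Ru ON Ly Fi22 Fi23 Fi24' HN Th B M
    · exact (c2 (by (clear * - h1; tauto))).elim
    · exact (c2 (by (clear * - h1; (solve | repeat (first | with_reducible assumption | exact Or.inl (by with_reducible assumption) | refine Or.inr ?_) | tauto)))).elim
    · exact (c2 (by (clear * - h1; (solve | repeat (first | with_reducible assumption | exact Or.inl (by with_reducible assumption) | refine Or.inr ?_) | tauto)))).elim
    · exact (c2 (by (clear * - h1; (solve | repeat (first | with_reducible assumption | exact Or.inl (by with_reducible assumption) | refine Or.inr ?_) | tauto)))).elim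
    · exact (c2 (by (clear * - h1; (solve | repeat (first | with_reducible assumption | exact Or.inl (by with_reducible assumption) | refine Or.inr ?_) | tauto)))).elim
    · exact (j1_row h1 h).elim
    · exact (c2 (by (clear * - h1; (solve | repeat (first | with_reducible assumption | exact Or.inl (by with_reducible assumption) | refine Or.inr ?_) | tauto)))).elim
    · exact (c2 (by (clear * - h1; (solve | repeat (first | with_reducible assumption | exact Or.inl (by with_reducible assumption) | refine Or.inr ?_) | tauto)))).elim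
    · exact (c2 (by (clear * - h1; (solve | repeat (first | with_reducible assumption | exact Or.inl (by with_reducible assumption) | refine Or.inr ?_) | tauto)))).elim
    · exact (c2 (by (clear * - h1; (solve | repeat (first | with_reducible assumption | exact Or.inl (by with_reducible assumption) | refine Or.inr ?_) | tauto)))).elim
    · exact (c2 (by (clear * - h1; (solve | repeat (first | with_reducible assumption | exact Or.inl (by with_reducible assumption) | refine Or.inr ?_) | tauto)))).elim
    · exact (co3_row h1 h).elim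
    · exact (mcl_row h1 h).elim
    · exact (c2 (by (clear * - h1; (solve | repeat (first | with_reducible assumption | exact Or.inl (by with_reducible assumption) | refine Or.inr ?_) | tauto)))).elim
    · exact (c2 (by (clear * - h1; (solve | repeat (first | with_reducible assumption | exact Or.inl (by with_reducible assumption) | refine Or.inr ?_) | tauto)))).elim
    · exact Or.inr ⟨h1, he_row h1 h⟩
    · exact (c2 (by (clear * - h1; (solve | repeat (first | with_reducible assumption | exact Or.inl (by with_reducible assumption) | refine Or.inr ?_) | tauto)))).elim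
    · exact (on_row h1 h).elim
    · exact (ly_row h1 h).elim
    · exact (c2 (by (clear * - h1; (solve | repeat (first | with_reducible assumption | exact Or.inl (by with_reducible assumption) | refine Or.inr ?_) | tauto)))).elim
    · exact (c2 (by (clear * - h1; (solve | repeat (first | with_reducible assumption | exact Or.inl (by with_reducible assumption) | refine Or.inr ?_) | tauto)))).elim
    · exact (c2 (by (clear * - h1; (solve | repeat (first | with_reducible assumption | exact Or.inl (by with_reducible assumption) | refine Or.inr ?_) | tauto)))).elim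
    · exact (hn_row h1 h).elim
    · exact (c2 (by (clear * - h1; (solve | simp only [*, true_or, or_true, and_self, true_and, and_true, not_false_eq_true] | tauto)))).elim
    · exact (c2 (by (clear * - h1; (solve | repeat (first | with_reducible assumption | exact Or.inl (by with_reducible assumption) | refine Or.inr ?_) | tauto)))).elim
    · exact (c2 (by (clear * - h1; (solve | repeat (first | with_reducible assumption | exact Or.inl (by with_reducible assumption) | refine Or.inr ?_) | tauto)))).elim

end Cfsg.Agent.H295.A7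
end
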